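import Mathlib.LinearAlgebra.ExteriorPower.Basic
import Mathlib.RingTheory.LocalRing.Module
import Mathlib.RingTheory.Localization.Finiteness
import Mathlib.RingTheory.Spectrum.Prime.FreeLocus
import Mathlib.RingTheory.Localization.Algebra
import Mathlib.Algebra.Module.FinitePresentation
import Groth.Agent.GrpSchLib.HopfQuotRank
import Groth.Agent.AzumayaX.EtaleSub

/-!
Local generators on the base for invertible modules over a finite algebra.
-/

universe u

namespace Groth.Agent.NormTensor

open TensorProduct

variable {A : Type u} [CommRing A]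

theorem mem_of_forall_prime {N : Type*} [AddCommGroup N] [Module A N] (W : Submodule A N) (x : N)
    (h : ∀ p : PrimeSpectrum A, ∃ f : A, f ∉ p.asIdeal ∧ f • x ∈ W) : x ∈ W := by
  let I : Ideal A := W.comap (LinearMap.toSpanSingleton A N x)
  have hI : I = ⊤ := by
    by_contra hne
    obtain ⟨m, hm, hle⟩ := I.exists_le_maximal hne
    obtain ⟨f, hf, hfx⟩ := h ⟨m, hm.isPrime⟩
    exact hf (hle hfx)
  have h1 : (1 : A) ∈ I := hI ▸ Submodule.mem_top
  simpa [I] using h1

/-- A module of constant rank `n` is generated by `n` elements near a prime of the base. -/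
theorem exists_gen {B : Type u} [AddCommGroup B] [Module A B] [Module.Finite A B] [Module.Projective A B]
    (n : ℕ) (p : PrimeSpectrum A)
    (hn : Module.finrank (Localization.AtPrime p.asIdeal) (LocalizedModule p.asIdeal.primeCompl B) = n) :
    ∃ (f : A) (v : Fin n → B), f ∉ p.asIdeal ∧ ∀ b : B, f • b ∈ Submodule.span A (Set.range v) := by
  classical
  let S := p.asIdeal.primeCompl
  let mkB := LocalizedModule.mkLinearMap S B
  have : Module.Free (Localization.AtPrime p.asIdeal) (LocalizedModule S B) :=
    Module.free_of_flat_of_isLocalRing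
  have bas := Module.finBasisOfFinrankEq (Localization.AtPrime p.asIdeal) (LocalizedModule S B) hn
  choose y hy using fun i => IsLocalizedModule.surj S mkB (bas i)
  let v : Fin n → B := fun i => (y i).1
  refine (?_ : ∃ f : A, f ∉ p.asIdeal ∧ ∀ b : B, f • b ∈ Submodule.span A (Set.range v)).elim
    fun f hf => ⟨f, v, hf⟩
  have hone : ∀ b : B, ∃ s : S, (s : A) • b ∈ Submodule.span A (Set.range v) := by
    intro b
    choose c hc using fun i => IsLocalization.surj S (bas.repr (mkB b) i)
    let d : S := ∏ i, (c i).2 * (y i).2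
    let q : Fin n → A := fun i => (∏ j ∈ Finset.univ.erase i, (((c j).2 * (y j).2 : S) : A)) * (c i).1
    have hd : mkB ((d : A) • b) = mkB (∑ i, q i • v i) := by
      simp only [map_sum, map_smul]
      conv_lhs => rw [← bas.sum_repr (mkB b)]
      rw [Finset.smul_sum]
      refine Finset.sum_congr rfl fun i _ => ?_
      have hv : mkB (v i) = ((y i).2 : A) • bas i := (hy i).symm
      have hd' : (d : A) = (((c i).2 * (y i).2 : S) : A) *
          ∏ j ∈ Finset.univ.erase i, (((c j).2 * (y j).2 : S) : A) := by
        rw [Finset.mul_prod_erase _ (fun j => (((c j).2 * (y j).2 : S) : A)) (Finset.mem_univ i)]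
        simp [d]
      rw [hv, smul_smul, ← algebraMap_smul (Localization.AtPrime p.asIdeal) (d : A),
        ← algebraMap_smul (Localization.AtPrime p.asIdeal) (q i * ((y i).2 : A)), smul_smul, hd']
      congr 1
      simp only [q, map_mul, Submonoid.coe_mul, ← hc i]
      ring
    obtain ⟨s, hs⟩ := IsLocalizedModule.exists_of_eq (S := S) (f := mkB) hd
    refine ⟨s * d, ?_⟩
    have : ((s * d : S) : A) • b = (s : A) • ∑ i, q i • v i := by
      rw [Submonoid.coe_mul, mul_smul]; exact hs
    rw [this]
    exact Submodule.smul_mem _ _ (Submodule.sum_mem _ fun i _ =>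
      Submodule.smul_mem _ _ (Submodule.subset_span ⟨i, rfl⟩))
  choose s hs using hone
  obtain ⟨T, hT⟩ := Module.Finite.fg_top (R := A) (M := B)
  refine ⟨((∏ b ∈ T, s b : S) : A), (∏ b ∈ T, s b : S).2, fun b => ?_⟩
  let W : Submodule A B :=
    (Submodule.span A (Set.range v)).comap (LinearMap.lsmul A B ((∏ b ∈ T, s b : S) : A))
  suffices hW : ⊤ ≤ W from hW (Submodule.mem_top : b ∈ ⊤)
  rw [← hT, Submodule.span_le]
  intro t ht
  show ((∏ b ∈ T, s b : S) : A) • t ∈ Submodule.span A (Set.range v)
  rw [← Finset.mul_prod_erase T s ht, Submonoid.coe_mul, mul_comm, mul_smul]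
  exact Submodule.smul_mem _ _ (hs t)

variable {B : Type u} [CommRing B] [Algebra A B] [Module.Finite A B]

/-- An invertible module over a finite algebra is trivial near a prime of the base. -/
theorem exists_frame (M : Type u) [AddCommGroup M] [Module B M] [Module.Finite B M]
    [Module.Projective B M]
    (h : ∀ q : PrimeSpectrum B, Module.finrank (Localization.AtPrime q.asIdeal) (LocalizedModule q.asIdeal.primeCompl M) = 1)
    (p : PrimeSpectrum A) :
    ∃ (f : A) (g : M) (ψ : M →ₗ[B] B), f ∉ p.asIdeal ∧ ψ g = algebraMap A B f ∧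
      ∀ m, ψ m • g = algebraMap A B f • m := by
  let S := Algebra.algebraMapSubmonoid B p.asIdeal.primeCompl
  let BS := Localization S
  let MS := BS ⊗[B] M
  have : Module.Finite (Localization.AtPrime p.asIdeal) BS :=
    Module.Finite.of_isLocalization A B p.asIdeal.primeCompl
  have : Finite (MaximalSpectrum BS) :=
    AzumayaX.finite_maximalSpectrum (R := Localization.AtPrime p.asIdeal) BS
  obtain ⟨bas⟩ := GrpSchLib.HopfQuot.nonempty_basis_of_rank (B := BS) (M := MS) 1 fun q =>
    (Module.rankAtStalk_baseChange q).trans (h _)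
  let mkM : M →ₗ[B] MS := TensorProduct.mk B BS M 1
  obtain ⟨⟨g, s0⟩, hg⟩ := IsLocalizedModule.surj S mkM (bas 0)
  have hg' : mkM g = (s0 : B) • bas 0 := hg.symm
  let ℓ : M →ₗ[B] BS := ((bas.coord 0).restrictScalars B).comp mkM
  have : Module.FinitePresentation B M := Module.finitePresentation_of_projective B M
  obtain ⟨ψ, s, hψ⟩ := Module.FinitePresentation.exists_lift_of_isLocalizedModule S
    (Algebra.linearMap B BS) ℓ
  have hψ' : ∀ m, algebraMap B BS (ψ m) = (s : B) • bas.repr (mkM m) 0 :=
    fun m => LinearMap.congr_fun hψ m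
  let φ : M →ₗ[B] M := (LinearMap.toSpanSingleton B M g).comp ψ
  have hφ : mkM.comp φ = mkM.comp (((s : B) * s0) • LinearMap.id) := by
    refine LinearMap.ext fun m => ?_
    show mkM (ψ m • g) = mkM (((s : B) * s0) • m)
    rw [map_smul, map_smul, hg', ← algebraMap_smul BS (ψ m), hψ']
    conv_rhs => rw [← bas.sum_repr (mkM m), Fin.sum_univ_one]
    rw [smul_assoc, smul_comm (bas.repr (mkM m) 0), smul_smul]
  obtain ⟨r, hr⟩ := Module.Finite.exists_smul_of_comp_eq_of_isLocalizedModule S mkM φ _ hφ
  have hψg : algebraMap B BS (ψ g) = algebraMap B BS ((s : B) * s0) := by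
    rw [hψ', hg', map_mul, ← algebraMap_smul BS (s0 : B) (bas 0), map_smul, Finsupp.smul_apply,
      bas.repr_self, Finsupp.single_eq_same, Algebra.smul_def]
    simp
  obtain ⟨r', hr'⟩ := (IsLocalization.eq_iff_exists S BS).1 hψg
  obtain ⟨f, hf, hfe⟩ := Submonoid.mem_map.1 (r * r' * (s * s0)).2
  refine ⟨f, g, ((r : B) * r') • ψ, hf, ?_, fun m => ?_⟩
  · rw [show algebraMap A B f = _ from hfe, LinearMap.smul_apply, smul_eq_mul, mul_assoc, hr']
    simp only [Submonoid.coe_mul]
    ring
  · have h1 : (r : B) • (ψ m • g) = (r : B) • (((s : B) * s0) • m) := LinearMap.congr_fun hr m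
    rw [show algebraMap A B f = _ from hfe, LinearMap.smul_apply, smul_assoc, mul_comm, mul_smul, h1,
      smul_smul, smul_smul]
    simp only [Submonoid.coe_mul]
    congr 1
    ring

end Groth.Agent.NormTensor
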