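import Mathlib.LinearAlgebra.ExteriorPower.Basic
import Mathlib.LinearAlgebra.Determinant
import Mathlib.LinearAlgebra.TensorPower.Basic
import Mathlib.Algebra.Module.LocalizedModule.IsLocalization
import Mathlib.RingTheory.Localization.Integer

/-!
Elements landing in a submodule after multiplication by a multiplicative set.
-/

universe u v

namespace Groth.Agent.NormTensor

open TensorProduct

variable {A : Type u} [CommRing A] (S : Submonoid A)

section Monoid

variable {N : Type u} [AddCommMonoid N] [Module A N]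

/-- The saturation of a submodule. -/
def sat (W : Submodule A N) : Submodule A N where
  carrier := {x | ∃ s ∈ S, s • x ∈ W}
  zero_mem' := ⟨1, S.one_mem, by simp⟩
  add_mem' := by
    rintro x y ⟨s, hs, hx⟩ ⟨t, ht, hy⟩
    refine ⟨s * t, S.mul_mem hs ht, ?_⟩
    rw [smul_add]
    refine add_mem ?_ ?_
    · rw [mul_comm, mul_smul]; exact W.smul_mem t hx
    · rw [mul_smul]; exact W.smul_mem s hy
  smul_mem' := by
    rintro a x ⟨s, hs, hx⟩
    exact ⟨s, hs, by rw [smul_comm]; exact W.smul_mem a hx⟩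

theorem mem_sat {W : Submodule A N} {x : N} : x ∈ sat S W ↔ ∃ s ∈ S, s • x ∈ W := Iff.rfl

theorem sat_eq_top_of_span {W : Submodule A N} {T : Set N} (hT : Submodule.span A T = ⊤)
    (h : ∀ x ∈ T, ∃ s ∈ S, s • x ∈ W) : sat S W = ⊤ :=
  top_le_iff.1 (hT ▸ Submodule.span_le.2 h)

theorem sat_tensor {N' : Type u} [AddCommMonoid N'] [Module A N'] (e : N) (e' : N')
    (h : sat S (Submodule.span A {e}) = ⊤) (h' : sat S (Submodule.span A {e'}) = ⊤) :
    sat S (Submodule.span A {e ⊗ₜ[A] e'}) = ⊤ := by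
  refine sat_eq_top_of_span S (TensorProduct.span_tmul_eq_top A N N') ?_
  rintro _ ⟨x, y, rfl⟩
  obtain ⟨s, hs, hx⟩ := mem_sat S |>.1 (h ▸ Submodule.mem_top : x ∈ sat S (Submodule.span A {e}))
  obtain ⟨t, ht, hy⟩ := mem_sat S |>.1 (h' ▸ Submodule.mem_top : y ∈ sat S (Submodule.span A {e'}))
  obtain ⟨a, ha⟩ := Submodule.mem_span_singleton.1 hx
  obtain ⟨b, hb⟩ := Submodule.mem_span_singleton.1 hy
  refine ⟨s * t, S.mul_mem hs ht, Submodule.mem_span_singleton.2 ⟨a * b, ?_⟩⟩
  rw [← smul_tmul_smul, ← smul_tmul_smul, ha, hb]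

end Monoid

variable {N : Type u} [AddCommGroup N] [Module A N]

/-- Clearing denominators in a basis of a localized module. -/
theorem exists_numerator_basis {RS NS : Type*} [CommRing RS] [Algebra A RS] [IsLocalization S RS]
    [AddCommGroup NS] [Module A NS] [Module RS NS] [IsScalarTower A RS NS] (mk : N →ₗ[A] NS)
    [IsLocalizedModule S mk] {ι : Type*} [Fintype ι] (b : Module.Basis ι RS NS) :
    ∃ (g : ι → N) (b' : Module.Basis ι RS NS), (∀ i, mk (g i) = b' i) ∧
      sat S (Submodule.span A (Set.range g)) = ⊤ := by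
  choose y hy using fun i => IsLocalizedModule.surj S mk (b i)
  let b' := b.unitsSMul fun i => (IsLocalization.map_units RS (y i).2).unit
  have hb : ∀ i, mk (y i).1 = b' i := fun i => by
    rw [Module.Basis.unitsSMul_apply, Units.smul_def, IsUnit.unit_spec, algebraMap_smul]
    exact (hy i).symm
  refine ⟨fun i => (y i).1, b', hb, top_le_iff.1 fun x _ => ?_⟩
  obtain ⟨s, hs⟩ := IsLocalization.exist_integer_multiples_of_finite S fun i => b'.repr (mk x) i
  choose a ha using hs
  have h : mk ((s : A) • x) = mk (∑ i, a i • (y i).1) := by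
    simp only [map_sum, map_smul, hb]
    conv_lhs => rw [← b'.sum_repr (mk x), Finset.smul_sum]
    refine Finset.sum_congr rfl fun i _ => ?_
    rw [← smul_assoc, ← ha i, algebraMap_smul]
  obtain ⟨t, ht⟩ := IsLocalizedModule.exists_of_eq (S := S) (f := mk) h
  refine ⟨(t : A) * s, S.mul_mem t.2 s.2, ?_⟩
  rw [mul_smul]
  refine (show (t : A) • (s : A) • x = (t : A) • ∑ i, a i • (y i).1 from ht) ▸ ?_
  exact Submodule.smul_mem _ _ (Submodule.sum_mem _ fun i _ =>
    Submodule.smul_mem _ _ (Submodule.subset_span ⟨i, rfl⟩))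

/-- Wedges of members of the span of `n` vectors are multiples of the wedge of these vectors. -/
theorem ιMulti_mem_span {n : ℕ} (v w : Fin n → N) (h : ∀ i, w i ∈ Submodule.span A (Set.range v)) :
    exteriorPower.ιMulti A n w ∈ Submodule.span A {exteriorPower.ιMulti A n v} := by
  choose c hc using fun i => (Submodule.mem_span_range_iff_exists_fun A).1 (h i)
  let L : (Fin n → A) →ₗ[A] N := Fintype.linearCombination A v
  let bA := Pi.basisFun A (Fin n)
  let φ : (Fin n → A) [⋀^Fin n]→ₗ[A] (⋀[A]^n N) := (exteriorPower.ιMulti A n).compLinearMap L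
  have hφ : φ = bA.det.smulRight (φ bA) := by
    refine Module.Basis.ext_alternating bA fun σ hσ => ?_
    let π := Equiv.ofBijective σ (Finite.injective_iff_bijective.1 hσ)
    change φ (bA ∘ π) = bA.det (bA ∘ π) • φ bA
    rw [φ.map_perm, bA.det.map_perm, bA.det_self, Units.smul_def, Units.smul_def, smul_assoc, one_smul]
  have hLb : L ∘ bA = v := funext fun i => by simp [L, bA, Fintype.linearCombination_apply, Pi.single_apply]
  have h1 : exteriorPower.ιMulti A n w = φ c :=
    congrArg _ (funext fun i => by rw [← hc i]; simp [L, Fintype.linearCombination_apply])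
  rw [h1, hφ, AlternatingMap.smulRight_apply]
  refine Submodule.smul_mem _ _ (Submodule.subset_span ?_)
  show exteriorPower.ιMulti A n (L ∘ bA) = _
  rw [hLb]

theorem sat_exteriorPower {n : ℕ} (v : Fin n → N) (h : sat S (Submodule.span A (Set.range v)) = ⊤) :
    sat S (Submodule.span A {exteriorPower.ιMulti A n v}) = ⊤ := by
  refine sat_eq_top_of_span S (exteriorPower.ιMulti_span A n N) ?_
  rintro _ ⟨w, rfl⟩
  choose s hs hw using fun i => mem_sat S |>.1 (h ▸ Submodule.mem_top : w i ∈ sat S (Submodule.span A (Set.range v)))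
  refine ⟨∏ i, s i, S.prod_mem fun i _ => hs i, ?_⟩
  rw [← AlternatingMap.map_smul_univ]
  exact ιMulti_mem_span v _ hw

theorem sat_tensorPower {m : ℕ} (e : N) (h : sat S (Submodule.span A {e}) = ⊤) :
    sat S (Submodule.span A {PiTensorProduct.tprod A fun _ : Fin m => e}) = ⊤ := by
  refine sat_eq_top_of_span S (PiTensorProduct.span_tprod_eq_top (R := A) (ι := Fin m) (s := fun _ => N)) ?_
  rintro _ ⟨w, rfl⟩
  choose s hs hw using fun i => mem_sat S |>.1 (h ▸ Submodule.mem_top : w i ∈ sat S (Submodule.span A {e}))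
  choose a ha using fun i => Submodule.mem_span_singleton.1 (hw i)
  refine ⟨∏ i, s i, S.prod_mem fun i _ => hs i, Submodule.mem_span_singleton.2 ⟨∏ i, a i, ?_⟩⟩
  rw [← MultilinearMap.map_smul_univ, ← MultilinearMap.map_smul_univ]
  exact congrArg _ (funext ha)

theorem sat_smul_family {B : Type u} [CommRing B] [Algebra A B] [Module B N] [IsScalarTower A B N]
    {ι κ : Type*} [Fintype κ] (v : ι → B) (g : κ → N) {τ : Type*} (π : τ ≃ ι × κ)
    (hv : sat S (Submodule.span A (Set.range v)) = ⊤)
    (hg : sat (Algebra.algebraMapSubmonoid B S) (Submodule.span B (Set.range g)) = ⊤) :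
    sat S (Submodule.span A (Set.range fun t => v (π t).1 • g (π t).2)) = ⊤ := by
  refine top_le_iff.1 fun x _ => ?_
  obtain ⟨_, ⟨s, hs, rfl⟩, hx⟩ := mem_sat _ |>.1
    (hg ▸ Submodule.mem_top : x ∈ sat (Algebra.algebraMapSubmonoid B S) (Submodule.span B (Set.range g)))
  obtain ⟨c, hc⟩ := (Submodule.mem_span_range_iff_exists_fun B).1 hx
  have key : ∀ (b : B) (l : κ), b • g l ∈ sat S (Submodule.span A (Set.range fun t => v (π t).1 • g (π t).2)) := by
    intro b l
    obtain ⟨r, hr, hb⟩ := mem_sat S |>.1 (hv ▸ Submodule.mem_top : b ∈ sat S (Submodule.span A (Set.range v)))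
    refine ⟨r, hr, ?_⟩
    rw [← smul_assoc]
    let f : B →ₗ[A] N := (LinearMap.toSpanSingleton B N (g l)).restrictScalars A
    have h1 := Submodule.mem_map_of_mem (f := f) hb
    rw [Submodule.map_span] at h1
    refine (Submodule.span_le.2 ?_) h1
    rintro _ ⟨_, ⟨i, rfl⟩, rfl⟩
    exact Submodule.subset_span ⟨π.symm (i, l), by simp [f]⟩
  obtain ⟨r, hr, hrx⟩ : (∑ l, c l • g l) ∈ sat S (Submodule.span A (Set.range fun t => v (π t).1 • g (π t).2)) :=
    Submodule.sum_mem _ fun l _ => key (c l) l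
  refine ⟨r * s, S.mul_mem hr hs, ?_⟩
  rw [hc, show (algebraMap A B) s • x = s • x from algebraMap_smul B s x] at hrx
  rwa [mul_smul]

end Groth.Agent.NormTensor
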