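import Mathlib.RingTheory.Norm.Transitivity
import Mathlib.RingTheory.AlgebraTower
import Groth.Agent.NormTensor.Sat
import Groth.Agent.NormTensor.Local

/-!
The exterior power over the base of a locally free module over a finite algebra.
-/

universe u

namespace Groth.Agent.NormTensor

open TensorProduct

/-- Restriction of scalars of an alternating map. -/
def resAlt (A : Type u) {R : Type u} [CommRing A] [CommRing R] [Algebra A R] {M N : Type u}
    [AddCommGroup M] [Module R M] [Module A M] [IsScalarTower A R M]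
    [AddCommGroup N] [Module R N] [Module A N] [IsScalarTower A R N] {ι : Type*}
    (f : M [⋀^ι]→ₗ[R] N) : M [⋀^ι]→ₗ[A] N :=
  { f.toMultilinearMap.restrictScalars A with
    map_eq_zero_of_eq' := fun v _ _ h hij => f.map_eq_zero_of_eq v h hij }

@[simp] theorem resAlt_apply (A : Type u) {R : Type u} [CommRing A] [CommRing R] [Algebra A R] {M N : Type u}
    [AddCommGroup M] [Module R M] [Module A M] [IsScalarTower A R M]
    [AddCommGroup N] [Module R N] [Module A N] [IsScalarTower A R N] {ι : Type*}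
    (f : M [⋀^ι]→ₗ[R] N) (v : ι → M) : resAlt A f v = f v := rfl

/-- The determinant identity. -/
theorem det_family {R E V : Type u} [CommRing R] [CommRing E] [Algebra R E] [AddCommGroup V]
    [Module E V] [Module R V] [IsScalarTower R E V] {n k : ℕ}
    (bE : Module.Basis (Fin n) R E) (bV : Module.Basis (Fin (k + 1)) E V)
    (π : Fin (n * (k + 1)) ≃ Fin n × Fin (k + 1)) (G : Fin (k + 1) → Fin n → E) (z : Fin (k + 1) → V) :
    ((bE.smulTower bV).reindex π.symm).det (fun t => G (π t).2 (π t).1 • z (π t).2) =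
      (∏ i : Fin k, bE.det (G i.castSucc)) * bE.det (fun j => G (Fin.last k) j * bV.det z) := by
  let X : V →ₗ[E] V := bV.constr E z
  have hX : ∀ l, X (bV l) = z l := fun l => bV.constr_basis E z l
  have : Module.Free R E := .of_basis bE
  have : Module.Free E V := .of_basis bV
  let F0 : Fin (n * (k + 1)) → V := fun t => G (π t).2 (π t).1 • bV (π t).2
  let bVR := (bE.smulTower bV).reindex π.symm
  have hF : (fun t => G (π t).2 (π t).1 • z (π t).2) = (X.restrictScalars R) ∘ F0 :=
    funext fun t => by simp [F0, hX]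
  have hdX : LinearMap.det X = bV.det z := by
    rw [← funext hX, show (fun l => X (bV l)) = X ∘ bV from rfl, bV.det_comp, bV.det_self, mul_one]
  have hF0 : bVR.det F0 = ∏ i, bE.det (G i) := by
    rw [Module.Basis.det_apply]
    have hM : bVR.toMatrix F0 = (Matrix.blockDiagonal fun i => bE.toMatrix (G i)).submatrix π π := by
      refine Matrix.ext fun s t => ?_
      rw [Module.Basis.toMatrix_apply, Matrix.submatrix_apply, Matrix.blockDiagonal_apply]
      simp only [bVR, F0, Module.Basis.repr_reindex_apply, Equiv.symm_symm, Module.Basis.smulTower_repr,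
        map_smul, Module.Basis.repr_self, Finsupp.smul_single, smul_eq_mul, mul_one]
      by_cases h : (π s).2 = (π t).2
      · rw [if_pos h, h, Finsupp.single_eq_same, Module.Basis.toMatrix_apply]
      · rw [if_neg h, Finsupp.single_eq_of_ne h, map_zero, Finsupp.coe_zero, Pi.zero_apply]
    rw [hM, Matrix.det_submatrix_equiv_self, Matrix.det_blockDiagonal]
    rfl
  have hlast : bE.det (fun j => G (Fin.last k) j * bV.det z) =
      Algebra.norm R (bV.det z) * bE.det (G (Fin.last k)) := by
    rw [Algebra.norm_apply, ← bE.det_comp]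
    exact congrArg _ (funext fun j => mul_comm _ _)
  rw [hF, bVR.det_comp, LinearMap.det_restrictScalars, hdX, hF0, hlast, Fin.prod_univ_castSucc]
  ring

variable {A : Type u} [CommRing A]

/-- A submodule of pairs which locally matches two cyclic modules is the graph of an isomorphism. -/
theorem equiv_of_cyclic {L L' : Type u} [AddCommMonoid L] [Module A L] [AddCommMonoid L'] [Module A L']
    (R : Submodule A (L × L'))
    (key : ∀ p : PrimeSpectrum A, ∃ (Φ : L →ₗ[A] Localization.AtPrime p.asIdeal)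
      (Φ' : L' →ₗ[A] Localization.AtPrime p.asIdeal) (r0 : L × L'), r0 ∈ R ∧ IsUnit (Φ r0.1) ∧
        IsUnit (Φ' r0.2) ∧ (∀ r ∈ R, Φ r.1 = Φ' r.2) ∧
        sat p.asIdeal.primeCompl (Submodule.span A {r0.1}) = ⊤ ∧
        sat p.asIdeal.primeCompl (Submodule.span A {r0.2}) = ⊤) :
    Nonempty (L ≃ₗ[A] L') := by
  let : AddCommGroup L := Module.addCommMonoidToAddCommGroup A
  let : AddCommGroup L' := Module.addCommMonoidToAddCommGroup A
  choose Φ Φ' r0 hmem hu hu' heq hc hc' using key
  have hker : ∀ {N : Type u} [AddCommGroup N] [Module A N] (p : PrimeSpectrum A)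
      (φ : N →ₗ[A] Localization.AtPrime p.asIdeal) (e : N), IsUnit (φ e) →
      sat p.asIdeal.primeCompl (Submodule.span A {e}) = ⊤ → ∀ y, φ y = 0 →
      ∃ f : A, f ∉ p.asIdeal ∧ f • y = 0 := by
    intro N _ _ p φ e he h y hy
    obtain ⟨s, hs, hsy⟩ := mem_sat _ |>.1 (h ▸ Submodule.mem_top : y ∈ sat p.asIdeal.primeCompl _)
    obtain ⟨a, ha⟩ := Submodule.mem_span_singleton.1 hsy
    have h0 : algebraMap A (Localization.AtPrime p.asIdeal) a * φ e = 0 := by
      rw [← Algebra.smul_def, ← map_smul, ha, map_smul, hy, smul_zero]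
    obtain ⟨t, ht⟩ := (IsLocalization.map_eq_zero_iff p.asIdeal.primeCompl _ a).1
      (he.mul_left_eq_zero.1 h0)
    exact ⟨(t : A) * s, p.asIdeal.primeCompl.mul_mem t.2 hs,
      by rw [mul_smul, ← ha, ← mul_smul, ht, zero_smul]⟩
  let π1 : R →ₗ[A] L := (LinearMap.fst A L L').comp R.subtype
  let π2 : R →ₗ[A] L' := (LinearMap.snd A L L').comp R.subtype
  have hz : ∀ {N : Type u} [AddCommGroup N] [Module A N] (x : N),
      (∀ p : PrimeSpectrum A, ∃ f, f ∉ p.asIdeal ∧ f • x = 0) → x = 0 := fun x h =>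
    (Submodule.mem_bot A).1 (mem_of_forall_prime ⊥ x fun p => (h p).imp fun f hf =>
      ⟨hf.1, (Submodule.mem_bot A).2 hf.2⟩)
  have hs : ∀ {N : Type u} [AddCommGroup N] [Module A N] (W : Submodule A N) (e : PrimeSpectrum A → N),
      (∀ p, e p ∈ W) → (∀ p, sat p.asIdeal.primeCompl (Submodule.span A {e p}) = ⊤) → ∀ x, x ∈ W := by
    intro N _ _ W e he h x
    refine mem_of_forall_prime W x fun p => ?_
    obtain ⟨s, hs, hsx⟩ := mem_sat _ |>.1 (h p ▸ Submodule.mem_top : x ∈ sat p.asIdeal.primeCompl _)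
    exact ⟨s, hs, (Submodule.span_singleton_le_iff_mem _ _).2 (he p) hsx⟩
  have h1 : Function.Bijective π1 := by
    refine ⟨(injective_iff_map_eq_zero π1).2 fun r h0 => Subtype.ext (Prod.ext h0 (hz _ fun p => ?_)),
      fun x => ?_⟩
    · refine hker p (Φ' p) _ (hu' p) (hc' p) _ ?_
      rw [← heq p r r.2, show (r : L × L').1 = 0 from h0, map_zero]
    · obtain ⟨r, hr, rfl⟩ := hs (R.map (LinearMap.fst A L L')) (fun p => (r0 p).1)
        (fun p => ⟨r0 p, hmem p, rfl⟩) hc x
      exact ⟨⟨r, hr⟩, rfl⟩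
  have h2 : Function.Bijective π2 := by
    refine ⟨(injective_iff_map_eq_zero π2).2 fun r h0 => Subtype.ext (Prod.ext (hz _ fun p => ?_) h0),
      fun x => ?_⟩
    · refine hker p (Φ p) _ (hu p) (hc p) _ ?_
      rw [heq p r r.2, show (r : L × L').2 = 0 from h0, map_zero]
    · obtain ⟨r, hr, rfl⟩ := hs (R.map (LinearMap.snd A L L')) (fun p => (r0 p).2)
        (fun p => ⟨r0 p, hmem p, rfl⟩) hc' x
      exact ⟨⟨r, hr⟩, rfl⟩
  exact ⟨(LinearEquiv.ofBijective π1 h1).symm.trans (LinearEquiv.ofBijective π2 h2)⟩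

variable {B : Type u} [CommRing B] [Algebra A B]

set_option maxHeartbeats 1000000 in
theorem nonempty_equiv_det [Module.Finite A B] [Module.Projective A B]
    (n : ℕ) (hn : ∀ q : PrimeSpectrum A, Module.finrank (Localization.AtPrime q.asIdeal) (LocalizedModule q.asIdeal.primeCompl B) = n)
    (M : Type u) [AddCommGroup M] [Module B M] [Module A M] [IsScalarTower A B M]
    [Module.Finite B M] [Module.Projective B M] (k : ℕ)
    (hM : ∀ q : PrimeSpectrum B, Module.finrank (Localization.AtPrime q.asIdeal) (LocalizedModule q.asIdeal.primeCompl M) = k + 1) :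
    Nonempty ((⋀[A]^(n * (k + 1)) M) ≃ₗ[A]
      (TensorPower A k (⋀[A]^n B)) ⊗[A] (⋀[A]^n (⋀[B]^(k + 1) M))) := by
  let π : Fin (n * (k + 1)) ≃ Fin n × Fin (k + 1) := finProdFinEquiv.symm
  let gen : (Fin (k + 1) → Fin n → B) × (Fin (k + 1) → M) →
      (⋀[A]^(n * (k + 1)) M) × ((TensorPower A k (⋀[A]^n B)) ⊗[A] (⋀[A]^n (⋀[B]^(k + 1) M))) :=
    fun x => (exteriorPower.ιMulti A (n * (k + 1)) (fun t => x.1 (π t).2 (π t).1 • x.2 (π t).2),
      (PiTensorProduct.tprod A fun i : Fin k => exteriorPower.ιMulti A n (x.1 i.castSucc)) ⊗ₜ[A]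
        exteriorPower.ιMulti A n (fun j => x.1 (Fin.last k) j • exteriorPower.ιMulti B (k + 1) x.2))
  refine equiv_of_cyclic (L := ⋀[A]^(n * (k + 1)) M)
    (L' := (TensorPower A k (⋀[A]^n B)) ⊗[A] (⋀[A]^n (⋀[B]^(k + 1) M)))
    (Submodule.span A (Set.range gen)) fun p => ?_
  let S := p.asIdeal.primeCompl
  let R := Localization.AtPrime p.asIdeal
  let SB := Algebra.algebraMapSubmonoid B S
  let BS := Localization SB
  let MS := BS ⊗[B] M
  have : Module.Finite R BS := Module.Finite.of_isLocalization A B S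
  have : Module.Flat A BS := inferInstance
  have : Module.Flat R BS := Module.flat_iff_of_isLocalization R S BS |>.2 inferInstance
  have : Module.Free R BS := Module.free_of_flat_of_isLocalRing
  let mkB : B →ₗ[A] BS := (IsScalarTower.toAlgHom A B BS).toLinearMap
  have hrank : Module.finrank R BS = n := by
    rw [← hn p]
    exact ((IsLocalizedModule.iso S mkB).extendScalarsOfIsLocalization S R).finrank_eq.symm
  obtain ⟨v, bE, hv, hvs⟩ := exists_numerator_basis S mkB (Module.finBasisOfFinrankEq R BS hrank)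
  have : Finite (MaximalSpectrum BS) := AzumayaX.finite_maximalSpectrum (R := R) BS
  obtain ⟨bas⟩ := GrpSchLib.HopfQuot.nonempty_basis_of_rank (B := BS) (M := MS) (k + 1) fun q =>
    (Module.rankAtStalk_baseChange q).trans (hM _)
  let mkM : M →ₗ[B] MS := TensorProduct.mk B BS M 1
  obtain ⟨g, bV, hg, hgs⟩ := exists_numerator_basis SB mkM bas
  let mkMA : M →ₗ[A] MS := mkM.restrictScalars A
  let bVR := (bE.smulTower bV).reindex π.symm
  let Φ : (⋀[A]^(n * (k + 1)) M) →ₗ[A] R :=
    exteriorPower.alternatingMapLinearEquiv ((resAlt A bVR.det).compLinearMap mkMA)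
  let dB : (⋀[A]^n B) →ₗ[A] R :=
    exteriorPower.alternatingMapLinearEquiv ((resAlt A bE.det).compLinearMap mkB)
  let dM : (⋀[B]^(k + 1) M) →ₗ[B] BS :=
    exteriorPower.alternatingMapLinearEquiv ((resAlt B bV.det).compLinearMap mkM)
  let dD : (⋀[A]^n (⋀[B]^(k + 1) M)) →ₗ[A] R :=
    exteriorPower.alternatingMapLinearEquiv ((resAlt A bE.det).compLinearMap (dM.restrictScalars A))
  let dT : TensorPower A k (⋀[A]^n B) →ₗ[A] R :=
    PiTensorProduct.lift ((MultilinearMap.mkPiAlgebra A (Fin k) R).compLinearMap fun _ => dB)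
  let Φ' : (TensorPower A k (⋀[A]^n B)) ⊗[A] (⋀[A]^n (⋀[B]^(k + 1) M)) →ₗ[A] R :=
    (LinearMap.mul' A R).comp (TensorProduct.map dT dD)
  have e1 : ∀ (w : Fin (k + 1) → Fin n → B) (m : Fin (k + 1) → M), Φ (gen (w, m)).1 =
      bVR.det fun t => mkB (w (π t).2 (π t).1) • mkM (m (π t).2) := fun w m => by
    simp only [Φ, gen, exteriorPower.alternatingMapLinearEquiv_apply_ιMulti,
      AlternatingMap.compLinearMap_apply, resAlt_apply, mkMA, LinearMap.coe_restrictScalars, map_smul]
    exact congrArg _ (funext fun t => (algebraMap_smul BS _ _).symm)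
  have e2 : ∀ (w : Fin (k + 1) → Fin n → B) (m : Fin (k + 1) → M), Φ' (gen (w, m)).2 =
      (∏ i : Fin k, bE.det fun j => mkB (w i.castSucc j)) *
        bE.det (fun j => mkB (w (Fin.last k) j) * bV.det fun l => mkM (m l)) := fun w m => by
    simp only [Φ', gen, LinearMap.comp_apply, TensorProduct.map_tmul, LinearMap.mul'_apply, dT,
      PiTensorProduct.lift.tprod, MultilinearMap.compLinearMap_apply, MultilinearMap.mkPiAlgebra_apply,
      dB, dD, exteriorPower.alternatingMapLinearEquiv_apply_ιMulti, AlternatingMap.compLinearMap_apply,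
      resAlt_apply, LinearMap.coe_restrictScalars, map_smul, dM, Algebra.smul_def]
    rfl
  have heq : ∀ r ∈ Submodule.span A (Set.range gen), Φ r.1 = Φ' r.2 := by
    intro r hr
    have hle : Submodule.span A (Set.range gen) ≤ LinearMap.ker
        (Φ.comp (LinearMap.fst A _ _) - Φ'.comp (LinearMap.snd A _ _)) := by
      refine Submodule.span_le.2 ?_
      rintro _ ⟨⟨w, m⟩, rfl⟩
      refine sub_eq_zero.2 ?_
      show Φ (gen (w, m)).1 = Φ' (gen (w, m)).2
      rw [e1, e2]
      exact det_family bE bV π (fun i j => mkB (w i j)) fun l => mkM (m l)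
    exact sub_eq_zero.1 (hle hr)
  have hunit : IsUnit (Φ (gen (fun _ => v, g)).1) := by
    rw [e1]
    convert isUnit_one (M := R)
    rw [← bVR.det_self]
    refine congrArg _ (funext fun t => ?_)
    simp [bVR, hv, hg]
  refine ⟨Φ, Φ', gen (fun _ => v, g), Submodule.subset_span ⟨_, rfl⟩, hunit,
    heq _ (Submodule.subset_span ⟨_, rfl⟩) ▸ hunit, heq, ?_, ?_⟩
  · exact sat_exteriorPower S _ (sat_smul_family S v g π hvs hgs)
  · have hT := sat_tensorPower (m := k) S (exteriorPower.ιMulti A n v) (sat_exteriorPower S v hvs)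
    suffices hD : sat S (Submodule.span A {exteriorPower.ιMulti A n
        fun j => v j • exteriorPower.ιMulti B (k + 1) g}) = ⊤ from sat_tensor S _ _ hT hD
    refine sat_exteriorPower S _ ?_
    refine sat_smul_family S v (fun _ : Unit => exteriorPower.ιMulti B (k + 1) g) (Equiv.prodPUnit (Fin n)).symm hvs ?_
    rw [Set.range_const]
    exact sat_exteriorPower SB g hgs

end Groth.Agent.NormTensor
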