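import Mathlib.LinearAlgebra.Determinant
import Groth.Agent.NormTensor.Local

/-!
The norm of invertible modules is multiplicative.
-/

universe u

namespace Groth.Agent.NormTensor

open TensorProduct

variable {A : Type u} [CommRing A]

theorem map_smul_pow {M N : Type u} [AddCommGroup M] [Module A M] [AddCommGroup N] [Module A N]
    (n : ℕ) (f : A) (φ : M →ₗ[A] N) :
    exteriorPower.map n (f • φ) = f ^ n • exteriorPower.map n φ := by
  refine exteriorPower.linearMap_ext ?_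
  refine AlternatingMap.ext fun v => ?_
  simp only [LinearMap.compAlternatingMap_apply, LinearMap.smul_apply, exteriorPower.map_apply_ιMulti]
  have h := (exteriorPower.ιMulti A n (M := N)).map_smul_univ (fun _ => f) (φ ∘ v)
  simpa [Function.comp_def] using h

theorem exists_cyclic {B : Type u} [AddCommGroup B] [Module A B] [Module.Finite A B] [Module.Projective A B]
    (n : ℕ) (p : PrimeSpectrum A)
    (hn : Module.finrank (Localization.AtPrime p.asIdeal) (LocalizedModule p.asIdeal.primeCompl B) = n) :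
    ∃ (f : A) (e : ⋀[A]^n B), f ∉ p.asIdeal ∧ ∀ x : ⋀[A]^n B, f • x ∈ Submodule.span A {e} := by
  obtain ⟨f, v, hf, hv⟩ := exists_gen n p hn
  refine ⟨f ^ n, exteriorPower.ιMulti A n v, fun h => hf (p.2.mem_of_pow_mem n h), fun x => ?_⟩
  let W : Submodule A (⋀[A]^n B) :=
    (Submodule.span A {exteriorPower.ιMulti A n v}).comap (LinearMap.lsmul A _ (f ^ n))
  suffices hW : ⊤ ≤ W from hW (Submodule.mem_top : x ∈ ⊤)
  rw [← exteriorPower.ιMulti_span A n B, Submodule.span_le]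
  rintro _ ⟨w, rfl⟩
  show f ^ n • exteriorPower.ιMulti A n w ∈ Submodule.span A {exteriorPower.ιMulti A n v}
  choose c hc using fun i => (Submodule.mem_span_range_iff_exists_fun A).1 (hv (w i))
  let L : (Fin n → A) →ₗ[A] B := Fintype.linearCombination A v
  let bA := Pi.basisFun A (Fin n)
  let φ : (Fin n → A) [⋀^Fin n]→ₗ[A] (⋀[A]^n B) := (exteriorPower.ιMulti A n).compLinearMap L
  have hφ : φ = bA.det.smulRight (φ bA) := by
    refine Module.Basis.ext_alternating bA fun σ hσ => ?_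
    let π := Equiv.ofBijective σ (Finite.injective_iff_bijective.1 hσ)
    change φ (bA ∘ π) = bA.det (bA ∘ π) • φ bA
    rw [φ.map_perm, bA.det.map_perm, bA.det_self, Units.smul_def, Units.smul_def, smul_assoc, one_smul]
  have hLb : L ∘ bA = v := funext fun i => by simp [L, bA, Fintype.linearCombination_apply, Pi.single_apply]
  have h1 : f ^ n • exteriorPower.ιMulti A n w = φ c := by
    have h := (exteriorPower.ιMulti A n (M := B)).map_smul_univ (fun _ => f) w
    rw [Finset.prod_const, Finset.card_univ, Fintype.card_fin] at h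
    rw [← h]
    exact congrArg _ (funext fun i => by rw [← hc i]; simp [L, Fintype.linearCombination_apply])
  rw [h1, hφ, AlternatingMap.smulRight_apply]
  refine Submodule.smul_mem _ _ (Submodule.subset_span ?_)
  show exteriorPower.ιMulti A n (L ∘ bA) = _
  rw [hLb]

variable {B : Type u} [CommRing B] [Algebra A B]

/-- Multiplication of a fixed element on the exterior power of the algebra. -/
noncomputable def wedgeMap (n : ℕ) {M : Type u} [AddCommGroup M] [Module B M] [Module A M]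
    [IsScalarTower A B M] (m : M) : (⋀[A]^n B) →ₗ[A] ⋀[A]^n M :=
  exteriorPower.map n ((LinearMap.toSpanSingleton B M m).restrictScalars A)

theorem wedgeMap_smul (n : ℕ) {M : Type u} [AddCommGroup M] [Module B M] [Module A M]
    [IsScalarTower A B M] (m g : M) (f : A) (b : B) (h : b • g = f • m) (x : ⋀[A]^n B) :
    f ^ n • wedgeMap n m x = wedgeMap n g (wedgeMap n b x) := by
  simp only [wedgeMap]
  rw [← LinearMap.smul_apply, ← map_smul_pow, ← LinearMap.comp_apply, ← exteriorPower.map_comp]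
  congr 2
  refine LinearMap.ext fun y => ?_
  simp [← h, smul_smul, smul_comm f y]

theorem exists_retr (n : ℕ) {M : Type u} [AddCommGroup M] [Module B M] [Module A M]
    [IsScalarTower A B M] (g : M) (ψ : M →ₗ[B] B) (f : A) (hg : ψ g = algebraMap A B f)
    (hψ : ∀ m, ψ m • g = algebraMap A B f • m) :
    ∃ Ψ : (⋀[A]^n M) →ₗ[A] ⋀[A]^n B, (∀ x, Ψ (wedgeMap n g x) = f ^ n • x) ∧
      ∀ y, wedgeMap n g (Ψ y) = f ^ n • y := by
  refine ⟨exteriorPower.map n (ψ.restrictScalars A), fun x => ?_, fun y => ?_⟩ <;>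
    simp only [wedgeMap] <;> rw [← LinearMap.comp_apply, ← exteriorPower.map_comp]
  · have : (ψ.restrictScalars A).comp ((LinearMap.toSpanSingleton B M g).restrictScalars A) =
        f • LinearMap.id := LinearMap.ext fun y => by simp [hg, Algebra.smul_def, mul_comm]
    rw [this, map_smul_pow, exteriorPower.map_id, LinearMap.smul_apply, LinearMap.id_apply]
  · have : ((LinearMap.toSpanSingleton B M g).restrictScalars A).comp (ψ.restrictScalars A) =
        f • LinearMap.id := LinearMap.ext fun m => by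
      rw [LinearMap.smul_apply, LinearMap.id_apply, ← algebraMap_smul B f m]
      exact hψ m
    rw [this, map_smul_pow, exteriorPower.map_id, LinearMap.smul_apply, LinearMap.id_apply]

/-- A submodule of pairs which is locally the image of a pair of isomorphisms is the graph of an
isomorphism. -/
theorem equiv_of_local {L L' Z : Type u} [AddCommGroup L] [Module A L] [AddCommGroup L'] [Module A L']
    [AddCommGroup Z] [Module A Z] (R : Submodule A (L × L'))
    (key : ∀ p : PrimeSpectrum A, ∃ (f : A) (U : Z →ₗ[A] L) (V : Z →ₗ[A] L'),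
      f ∉ p.asIdeal ∧ (∀ r ∈ R, ∃ z, f • r = (U z, V z)) ∧
      (∀ z, U z = 0 → f • z = 0) ∧ (∀ z, V z = 0 → f • z = 0) ∧
      (∀ z, U z ∈ R.map (LinearMap.fst A L L')) ∧ (∀ z, V z ∈ R.map (LinearMap.snd A L L')) ∧
      (∀ x, ∃ z, U z = f • x) ∧ (∀ y, ∃ z, V z = f • y)) : Nonempty (L' ≃ₗ[A] L) := by
  choose f U V hf hR hkU hkV hmU hmV hsU hsV using key
  let π1 : R →ₗ[A] L := (LinearMap.fst A L L').comp R.subtype
  let π2 : R →ₗ[A] L' := (LinearMap.snd A L L').comp R.subtype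
  have hz : ∀ {N : Type u} [AddCommGroup N] [Module A N] (x : N),
      (∀ p, (f p * f p) • x = 0) → x = 0 := fun x h => (Submodule.mem_bot A).1
    (mem_of_forall_prime ⊥ x fun p =>
      ⟨f p * f p, fun hp => (p.2.mem_or_mem hp).elim (hf p) (hf p), (Submodule.mem_bot A).2 (h p)⟩)
  have h1 : Function.Bijective π1 := by
    refine ⟨(injective_iff_map_eq_zero π1).2 fun r h0 => Subtype.ext ?_, fun x => ?_⟩
    · refine Prod.ext h0 (hz _ fun p => ?_)
      obtain ⟨z, he⟩ := hR p r r.2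
      have hU : U p z = 0 :=
        ((congrArg Prod.fst he).symm.trans (congrArg (f p • ·) h0)).trans (smul_zero _)
      rw [mul_smul, show f p • (r : L × L').2 = V p z from congrArg Prod.snd he, ← map_smul,
        hkU p z hU, map_zero]
    · have hx : x ∈ R.map (LinearMap.fst A L L') := mem_of_forall_prime _ x fun p => by
        obtain ⟨z, hz'⟩ := hsU p x
        exact ⟨f p, hf p, hz' ▸ hmU p z⟩
      obtain ⟨r, hr, rfl⟩ := hx
      exact ⟨⟨r, hr⟩, rfl⟩
  have h2 : Function.Bijective π2 := by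
    refine ⟨(injective_iff_map_eq_zero π2).2 fun r h0 => Subtype.ext ?_, fun x => ?_⟩
    · refine Prod.ext (hz _ fun p => ?_) h0
      obtain ⟨z, he⟩ := hR p r r.2
      have hV : V p z = 0 :=
        ((congrArg Prod.snd he).symm.trans (congrArg (f p • ·) h0)).trans (smul_zero _)
      rw [mul_smul, show f p • (r : L × L').1 = U p z from congrArg Prod.fst he, ← map_smul,
        hkV p z hV, map_zero]
    · have hx : x ∈ R.map (LinearMap.snd A L L') := mem_of_forall_prime _ x fun p => by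
        obtain ⟨z, hz'⟩ := hsV p x
        exact ⟨f p, hf p, hz' ▸ hmV p z⟩
      obtain ⟨r, hr, rfl⟩ := hx
      exact ⟨⟨r, hr⟩, rfl⟩
  exact ⟨(LinearEquiv.ofBijective π2 h2).symm.trans (LinearEquiv.ofBijective π1 h1)⟩


set_option backward.isDefEq.respectTransparency false in
set_option maxHeartbeats 2000000 in
/-- The pairs defining the multiplicativity isomorphism. -/
theorem nonempty_equiv [Module.Finite A B] [Module.Projective A B]
    (n : ℕ) (hn : ∀ q : PrimeSpectrum A, Module.finrank (Localization.AtPrime q.asIdeal) (LocalizedModule q.asIdeal.primeCompl B) = n)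
    (M₁ M₂ : Type u) [AddCommGroup M₁] [Module B M₁] [Module A M₁] [IsScalarTower A B M₁]
    [AddCommGroup M₂] [Module B M₂] [Module A M₂] [IsScalarTower A B M₂]
    [Module.Finite B M₁] [Module.Projective B M₁] [Module.Finite B M₂] [Module.Projective B M₂]
    (h₁ : ∀ q : PrimeSpectrum B, Module.finrank (Localization.AtPrime q.asIdeal) (LocalizedModule q.asIdeal.primeCompl M₁) = 1)
    (h₂ : ∀ q : PrimeSpectrum B, Module.finrank (Localization.AtPrime q.asIdeal) (LocalizedModule q.asIdeal.primeCompl M₂) = 1) :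
    Nonempty ((⋀[A]^n B) ⊗[A] (⋀[A]^n (M₁ ⊗[B] M₂)) ≃ₗ[A] (⋀[A]^n M₁) ⊗[A] (⋀[A]^n M₂)) := by
  let gen : M₁ × M₂ × (⋀[A]^n B) × (⋀[A]^n B) → ((⋀[A]^n M₁) ⊗[A] (⋀[A]^n M₂)) × ((⋀[A]^n B) ⊗[A] (⋀[A]^n (M₁ ⊗[B] M₂))) := fun x =>
    (wedgeMap n x.1 x.2.2.1 ⊗ₜ[A] wedgeMap n x.2.1 x.2.2.2,
      x.2.2.1 ⊗ₜ[A] wedgeMap n (x.1 ⊗ₜ[B] x.2.1) x.2.2.2)
  let R : Submodule A (((⋀[A]^n M₁) ⊗[A] (⋀[A]^n M₂)) × ((⋀[A]^n B) ⊗[A] (⋀[A]^n (M₁ ⊗[B] M₂)))) := Submodule.span A (Set.range gen)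
  have key : ∀ p : PrimeSpectrum A, ∃ (f : A) (U : (⋀[A]^n B) ⊗[A] (⋀[A]^n B) →ₗ[A] ((⋀[A]^n M₁) ⊗[A] (⋀[A]^n M₂))) (V : (⋀[A]^n B) ⊗[A] (⋀[A]^n B) →ₗ[A] ((⋀[A]^n B) ⊗[A] (⋀[A]^n (M₁ ⊗[B] M₂)))),
      f ∉ p.asIdeal ∧ (∀ r ∈ R, ∃ z, f • r = (U z, V z)) ∧
      (∀ z, U z = 0 → f • z = 0) ∧ (∀ z, V z = 0 → f • z = 0) ∧
      (∀ z, U z ∈ R.map (LinearMap.fst A ((⋀[A]^n M₁) ⊗[A] (⋀[A]^n M₂)) ((⋀[A]^n B) ⊗[A] (⋀[A]^n (M₁ ⊗[B] M₂))))) ∧ (∀ z, V z ∈ R.map (LinearMap.snd A ((⋀[A]^n M₁) ⊗[A] (⋀[A]^n M₂)) ((⋀[A]^n B) ⊗[A] (⋀[A]^n (M₁ ⊗[B] M₂))))) ∧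
      (∀ x, ∃ z, U z = f • x) ∧ (∀ y, ∃ z, V z = f • y) := by
    intro p
    obtain ⟨f1, g1, ψ1, hf1, hg1, hψ1⟩ := exists_frame (A := A) M₁ h₁ p
    obtain ⟨f2, g2, ψ2, hf2, hg2, hψ2⟩ := exists_frame (A := A) M₂ h₂ p
    obtain ⟨f0, e, hf0, he⟩ := exists_cyclic (B := B) n p (hn p)
    let ψ3 : M₁ ⊗[B] M₂ →ₗ[B] B := (TensorProduct.lid B B).toLinearMap.comp (TensorProduct.map ψ1 ψ2)
    have hψ3t : ∀ a b, ψ3 (a ⊗ₜ b) = ψ1 a * ψ2 b := fun a b => by simp [ψ3]
    have hg3 : ψ3 (g1 ⊗ₜ g2) = algebraMap A B (f1 * f2) := by rw [hψ3t, hg1, hg2, map_mul]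
    have hψ3 : ∀ t, ψ3 t • (g1 ⊗ₜ[B] g2) = algebraMap A B (f1 * f2) • t := by
      intro t
      induction t using TensorProduct.induction_on with
      | zero => simp
      | add a b ha hb => rw [map_add, add_smul, ha, hb, smul_add]
      | tmul a b => rw [hψ3t, map_mul, ← smul_tmul_smul, hψ1, hψ2, smul_tmul_smul]
    obtain ⟨Ψ1, hΨ1, hΨ1'⟩ := exists_retr n g1 ψ1 f1 hg1 hψ1
    obtain ⟨Ψ2, hΨ2, hΨ2'⟩ := exists_retr n g2 ψ2 f2 hg2 hψ2
    obtain ⟨Ψ3, hΨ3, hΨ3'⟩ := exists_retr n (g1 ⊗ₜ[B] g2) ψ3 (f1 * f2) hg3 hψ3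
    let U : (⋀[A]^n B) ⊗[A] (⋀[A]^n B) →ₗ[A] ((⋀[A]^n M₁) ⊗[A] (⋀[A]^n M₂)) := TensorProduct.map (wedgeMap n g1) (wedgeMap n g2)
    let V : (⋀[A]^n B) ⊗[A] (⋀[A]^n B) →ₗ[A] ((⋀[A]^n B) ⊗[A] (⋀[A]^n (M₁ ⊗[B] M₂))) := TensorProduct.map LinearMap.id (wedgeMap n (g1 ⊗ₜ[B] g2))
    let d : A := (f1 * f2) ^ n
    have hcU : ∀ z, TensorProduct.map Ψ1 Ψ2 (U z) = d • z := by
      intro z
      induction z using TensorProduct.induction_on with
      | zero => simp
      | add a b ha hb => rw [map_add, map_add, ha, hb, smul_add]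
      | tmul a b => simp only [U, TensorProduct.map_tmul, hΨ1, hΨ2, d, mul_pow, smul_tmul_smul]
    have hcV : ∀ z, TensorProduct.map LinearMap.id Ψ3 (V z) = d • z := by
      intro z
      induction z using TensorProduct.induction_on with
      | zero => simp
      | add a b ha hb => rw [map_add, map_add, ha, hb, smul_add]
      | tmul a b => simp only [V, TensorProduct.map_tmul, LinearMap.id_apply, hΨ3, d, tmul_smul]
    have hUc : ∀ z, U (TensorProduct.map Ψ1 Ψ2 z) = d • z := by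
      intro z
      induction z using TensorProduct.induction_on with
      | zero => simp
      | add a b ha hb => rw [map_add, map_add, ha, hb, smul_add]
      | tmul a b => simp only [U, TensorProduct.map_tmul, hΨ1', hΨ2', d, mul_pow, smul_tmul_smul]
    have hVc : ∀ z, V (TensorProduct.map LinearMap.id Ψ3 z) = d • z := by
      intro z
      induction z using TensorProduct.induction_on with
      | zero => simp
      | add a b ha hb => rw [map_add, map_add, ha, hb, smul_add]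
      | tmul a b => simp only [V, TensorProduct.map_tmul, LinearMap.id_apply, hΨ3', d, tmul_smul]
    refine ⟨f0 ^ 4 * d, U, V, fun h => ?_, fun r hr => ?_, fun z hz => ?_, fun z hz => ?_,
      fun z => ?_, fun z => ?_, fun x => ⟨TensorProduct.map Ψ1 Ψ2 (f0 ^ 4 • x), ?_⟩,
      fun y => ⟨TensorProduct.map LinearMap.id Ψ3 (f0 ^ 4 • y), ?_⟩⟩
    · rcases p.2.mem_or_mem h with h' | h'
      · exact hf0 (p.2.mem_of_pow_mem 4 h')
      · rcases p.2.mem_or_mem (p.2.mem_of_pow_mem n h') with h'' | h''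
        exacts [hf1 h'', hf2 h'']
    · induction hr using Submodule.span_induction with
      | zero => exact ⟨0, by rw [smul_zero, map_zero, map_zero]; rfl⟩
      | add a b _ _ ha hb =>
        obtain ⟨za, hza⟩ := ha
        obtain ⟨zb, hzb⟩ := hb
        exact ⟨za + zb, by rw [smul_add, hza, hzb, map_add, map_add]; rfl⟩
      | smul a x _ hx =>
        obtain ⟨z, hz⟩ := hx
        exact ⟨a • z, by rw [smul_comm, hz, map_smul, map_smul]; rfl⟩
      | mem r hr =>
        obtain ⟨⟨m1, m2, b, c⟩, rfl⟩ := hr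
        let Λ : B → ((⋀[A]^n B) →ₗ[A] (⋀[A]^n B)) := fun x => wedgeMap n x
        refine ⟨f0 ^ 4 • (Λ (ψ1 m1) b ⊗ₜ[A] Λ (ψ2 m2) c), ?_⟩
        have e1 := wedgeMap_smul n m1 g1 f1 (ψ1 m1) (by rw [hψ1, algebraMap_smul]) b
        have e2 := wedgeMap_smul n m2 g2 f2 (ψ2 m2) (by rw [hψ2, algebraMap_smul]) c
        have e3 := wedgeMap_smul n (m1 ⊗ₜ[B] m2) (g1 ⊗ₜ[B] g2) (f1 * f2) (ψ3 (m1 ⊗ₜ m2))
          (by rw [hψ3, algebraMap_smul]) c
        have hcomp : ∀ x y (z : (⋀[A]^n B)), Λ x (Λ y z) = Λ (x * y) z := fun x y z => by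
          simp only [Λ, wedgeMap]
          rw [← LinearMap.comp_apply, ← exteriorPower.map_comp]
          congr 2
          exact LinearMap.ext fun t => by simp; ring
        obtain ⟨β, hβ⟩ := Submodule.mem_span_singleton.1 (he b)
        obtain ⟨γ, hγ⟩ := Submodule.mem_span_singleton.1 (he c)
        obtain ⟨α, hα⟩ := Submodule.mem_span_singleton.1 (he (Λ (ψ1 m1) e))
        obtain ⟨δ, hδ⟩ := Submodule.mem_span_singleton.1 (he (Λ (ψ2 m2) e))
        have hswap : f0 ^ 4 • (Λ (ψ1 m1) b ⊗ₜ[A] Λ (ψ2 m2) c) =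
            f0 ^ 4 • (b ⊗ₜ[A] Λ (ψ3 (m1 ⊗ₜ m2)) c) := by
          rw [hψ3t, ← hcomp]
          calc f0 ^ 4 • (Λ (ψ1 m1) b ⊗ₜ[A] Λ (ψ2 m2) c)
              = (f0 * f0) • (Λ (ψ1 m1) (f0 • b) ⊗ₜ[A] Λ (ψ2 m2) (f0 • c)) := by
                simp only [map_smul, smul_tmul_smul, smul_smul]; congr 1; ring
            _ = (β * γ) • ((f0 • Λ (ψ1 m1) e) ⊗ₜ[A] (f0 • Λ (ψ2 m2) e)) := by
                simp only [← hβ, ← hγ, map_smul, smul_tmul_smul, smul_smul]; congr 1; ring
            _ = (β * γ * α * δ) • (e ⊗ₜ[A] e) := by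
                simp only [← hα, ← hδ, smul_tmul_smul, smul_smul]; congr 1; ring
            _ = (f0 ^ 2) • ((f0 • b) ⊗ₜ[A] Λ (ψ1 m1) (Λ (ψ2 m2) (f0 • c))) := by
                rw [← hβ, ← hγ, map_smul, map_smul]
                conv_rhs => rw [pow_two, mul_smul, ← tmul_smul, smul_comm f0 γ, ← map_smul, ← hδ,
                  map_smul, smul_comm γ δ, ← tmul_smul, smul_comm f0 δ, smul_comm f0 γ, ← hα]
                simp only [tmul_smul, ← smul_tmul', smul_smul]; congr 1; ring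
            _ = f0 ^ 4 • (b ⊗ₜ[A] Λ (ψ1 m1) (Λ (ψ2 m2) c)) := by
                simp only [map_smul, smul_tmul_smul, smul_smul]; congr 1; ring
        refine Prod.ext ?_ ?_
        · show (f0 ^ 4 * d) • (wedgeMap n m1 b ⊗ₜ[A] wedgeMap n m2 c) = U _
          simp only [U, map_smul, TensorProduct.map_tmul, Λ]
          rw [← e1, ← e2, smul_tmul_smul, smul_smul]; simp only [d, mul_pow]
        · show (f0 ^ 4 * d) • (b ⊗ₜ[A] wedgeMap n (m1 ⊗ₜ[B] m2) c) = V _
          rw [hswap]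
          simp only [V, map_smul, TensorProduct.map_tmul, LinearMap.id_apply, Λ]
          rw [← e3, tmul_smul, smul_smul]
    · rw [mul_smul, ← hcU, hz, map_zero, smul_zero]
    · rw [mul_smul, ← hcV, hz, map_zero, smul_zero]
    · induction z using TensorProduct.induction_on with
      | zero => rw [map_zero]; exact zero_mem _
      | add a b ha hb => rw [map_add]; exact add_mem ha hb
      | tmul b c => exact ⟨gen (g1, g2, b, c), Submodule.subset_span ⟨_, rfl⟩, rfl⟩
    · induction z using TensorProduct.induction_on with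
      | zero => rw [map_zero]; exact zero_mem _
      | add a b ha hb => rw [map_add]; exact add_mem ha hb
      | tmul b c => exact ⟨gen (g1, g2, b, c), Submodule.subset_span ⟨_, rfl⟩, rfl⟩
    · rw [hUc, smul_smul, mul_comm]
    · rw [hVc, smul_smul, mul_comm]
  exact equiv_of_local (A := A) (L := (⋀[A]^n M₁) ⊗[A] (⋀[A]^n M₂))
    (L' := (⋀[A]^n B) ⊗[A] (⋀[A]^n (M₁ ⊗[B] M₂))) (Z := (⋀[A]^n B) ⊗[A] (⋀[A]^n B)) R key

end Groth.Agent.NormTensor
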